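import Mathlib

/-! Numbers of elements of given order. -/

set_option autoImplicit false

namespace Cfsg.Agent.NsePGL.Basic

/-- A free action makes the order of the group divide the number of points. -/
theorem free_dvd {U α : Type*} [Group U] [Finite U] [MulAction U α] [Finite α]
    (h : ∀ (u : U) (a : α), u • a = a → u = 1) : Nat.card U ∣ Nat.card α := by
  classical
  haveI := Fintype.ofFinite (MulAction.orbitRel.Quotient U α)
  rw [Nat.card_congr (MulAction.selfEquivSigmaOrbits U α), Nat.card_sigma]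
  refine Finset.dvd_sum fun ω _ => ?_
  have hst : MulAction.stabilizer U ω.out = ⊥ :=
    (Subgroup.eq_bot_iff_forall _).2 fun u hu => h u _ hu
  rw [← Nat.card_congr (MulAction.orbitEquivQuotientStabilizer U ω.out).symm, hst,
    ← Subgroup.index_eq_card, Subgroup.index_bot]

variable {G : Type*} [Group G] [Finite G]

/-- The number of elements of a given order. -/
noncomputable def cnt (G : Type*) [Group G] (n : ℕ) : ℕ := Nat.card {g : G // orderOf g = n}

theorem cnt_one : cnt G 1 = 1 := by
  rw [cnt, Nat.card_eq_one_iff_unique]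
  exact ⟨⟨fun a b => Subtype.ext ((orderOf_eq_one_iff.1 a.2).trans (orderOf_eq_one_iff.1 b.2).symm)⟩,
    ⟨⟨1, orderOf_one⟩⟩⟩

theorem cnt_pos_iff {n : ℕ} : 0 < cnt G n ↔ ∃ g : G, orderOf g = n := by
  rw [cnt, Nat.card_pos_iff]
  exact ⟨fun h => h.1.elim fun g => ⟨g.1, g.2⟩, fun ⟨g, hg⟩ => ⟨⟨⟨g, hg⟩⟩, inferInstance⟩⟩

/-- The totient divides the number of elements of a given order. -/
theorem totient_dvd (n : ℕ) : n.totient ∣ cnt G n := by
  rcases Nat.lt_or_ge n 2 with hn | hn
  · interval_cases n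
    · rw [Nat.totient_zero, cnt, Nat.card_eq_zero.2 (Or.inl ?_)]
      exact ⟨fun g => (orderOf_pos g.1).ne' g.2⟩
    · rw [Nat.totient_one]; exact one_dvd _
  haveI : Fact (1 < n) := ⟨hn⟩
  haveI : NeZero n := ⟨by omega⟩
  letI : SMul (ZMod n)ˣ {g : G // orderOf g = n} :=
    ⟨fun u g => ⟨g.1 ^ (u : ZMod n).val, by
      rw [Nat.Coprime.orderOf_pow (by rw [g.2]; exact (ZMod.val_coe_unit_coprime u).symm), g.2]⟩⟩
  letI : MulAction (ZMod n)ˣ {g : G // orderOf g = n} :=
    { one_smul := fun g => Subtype.ext (by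
        show g.1 ^ ((1 : (ZMod n)ˣ) : ZMod n).val = g.1
        rw [Units.val_one, ZMod.val_one, pow_one])
      mul_smul := fun u v g => Subtype.ext (by
        show g.1 ^ ((u * v : (ZMod n)ˣ) : ZMod n).val = (g.1 ^ (v : ZMod n).val) ^ (u : ZMod n).val
        rw [← pow_mul, pow_eq_pow_iff_modEq, g.2, Units.val_mul, ZMod.val_mul, mul_comm]
        exact Nat.mod_modEq _ _) }
  have h := free_dvd (U := (ZMod n)ˣ) (α := {g : G // orderOf g = n}) (fun u g hu => by
    have h1 : g.1 ^ (u : ZMod n).val = g.1 ^ 1 := by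
      rw [pow_one]; exact congrArg Subtype.val hu
    rw [pow_eq_pow_iff_modEq, g.2, ← ZMod.natCast_eq_natCast_iff, ZMod.natCast_zmod_val,
      Nat.cast_one] at h1
    exact Units.ext h1)
  rwa [Nat.card_eq_fintype_card, ZMod.card_units_eq_totient] at h

/-- Elements whose orders satisfy a condition, counted order by order. -/
theorem card_filter_orders (D : ℕ → Prop) [DecidablePred D] :
    Nat.card {g : G // D (orderOf g)} = ∑ n ∈ ((Nat.card G).divisors.filter D), cnt G n := by
  classical
  haveI := Fintype.ofFinite G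
  rw [Nat.card_eq_fintype_card, Fintype.card_subtype,
    Finset.card_eq_sum_card_fiberwise (f := orderOf) (t := (Nat.card G).divisors.filter D)
      fun g hg => by
      simp only [Finset.coe_filter, Finset.mem_univ, true_and, Set.mem_ofPred_eq] at hg ⊢
      exact ⟨Nat.mem_divisors.2 ⟨orderOf_dvd_natCard g, Nat.card_pos.ne'⟩, hg⟩]
  refine Finset.sum_congr rfl fun n hn => ?_
  rw [cnt, Nat.card_eq_fintype_card, Fintype.card_subtype]
  congr 1
  ext g
  simp only [Finset.mem_filter, Finset.mem_univ, true_and]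
  exact ⟨fun h => h.2, fun h => ⟨h ▸ (Finset.mem_filter.1 hn).2, h⟩⟩

end Cfsg.Agent.NsePGL.Basic
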