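import Mathlib
import Cfsg.Agent.NsePGL.Basic

/-! Numbers of elements of given order in `PGL(2, q)` for odd `q`. -/

set_option autoImplicit false

namespace Cfsg.Agent.NsePGL.Counts

open Matrix Basic

variable {F : Type*} [Field F]

local notation "PG" => GL (Fin 2) F ⧸ Subgroup.center (GL (Fin 2) F)

/-- The quotient map. -/
noncomputable def pr : GL (Fin 2) F →* GL (Fin 2) F ⧸ Subgroup.center (GL (Fin 2) F) :=
  QuotientGroup.mk' _

theorem mem_center {g : GL (Fin 2) F} :
    g ∈ Subgroup.center (GL (Fin 2) F) ↔ ∃ l : F, g.val = l • 1 := by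
  rw [Matrix.GeneralLinearGroup.mem_center_iff_val_mem_range_scalar]
  constructor
  · rintro ⟨l, hl⟩
    exact ⟨l, by rw [← hl, Matrix.scalar_apply, Matrix.smul_one_eq_diagonal]⟩
  · rintro ⟨l, hl⟩
    exact ⟨l, by rw [hl, Matrix.scalar_apply, Matrix.smul_one_eq_diagonal]⟩

theorem pr_eq_iff {g h : GL (Fin 2) F} : pr g = pr h ↔ ∃ l : F, h.val = l • g.val := by
  rw [pr, QuotientGroup.mk'_apply, QuotientGroup.mk'_apply, QuotientGroup.eq, mem_center]
  constructor
  · rintro ⟨l, hl⟩
    refine ⟨l, ?_⟩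
    rw [Units.val_mul] at hl
    calc h.val = g.val * (g⁻¹.val * h.val) := by rw [Units.mul_inv_cancel_left]
      _ = l • g.val := by rw [hl, mul_smul_comm, mul_one]
  · rintro ⟨l, hl⟩
    exact ⟨l, by rw [Units.val_mul, hl, mul_smul_comm, Units.inv_mul]⟩

theorem sq_fin_two (M : Matrix (Fin 2) (Fin 2) F) : M * M = M.trace • M - M.det • 1 := by
  ext i j
  fin_cases i <;> fin_cases j <;>
    simp [Matrix.mul_apply, Fin.sum_univ_two, Matrix.trace_fin_two, Matrix.det_fin_two] <;> ring

theorem sq_zero_of_nilpotent {M : Matrix (Fin 2) (Fin 2) F} (h : IsNilpotent M) : M * M = 0 := by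
  obtain ⟨k, hk⟩ := h
  have hd : M.det = 0 := by
    have h1 : M.det ^ (k + 1) = 0 := by
      rw [← Matrix.det_pow, pow_succ, hk, zero_mul, Matrix.det_zero]
    exact eq_zero_of_pow_eq_zero h1
  have h2 : M * M = M.trace • M := by rw [sq_fin_two, hd, zero_smul, sub_zero]
  have h3 : ∀ j : ℕ, M ^ (j + 1) = M.trace ^ j • M := fun j => by
    induction j with
    | zero => simp
    | succ j ih => rw [pow_succ, ih, smul_mul_assoc, h2, smul_smul, pow_succ]
  have h4 := h3 k
  rw [pow_succ, hk, zero_mul, eq_comm, smul_eq_zero] at h4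
  rcases h4 with h4 | h4
  · rw [h2, eq_zero_of_pow_eq_zero h4, zero_smul]
  · rw [h4, zero_mul]

theorem trace_eq_zero_of_sq {M : Matrix (Fin 2) (Fin 2) F} (h : M * M = 0) :
    M.trace = 0 ∧ M.det = 0 := by
  have hd : M.det = 0 := by
    have := congrArg Matrix.det h
    rwa [Matrix.det_mul, Matrix.det_zero, mul_self_eq_zero] at this
  refine ⟨?_, hd⟩
  have h1 := sq_fin_two M
  rw [h, hd, zero_smul, sub_zero, eq_comm, smul_eq_zero] at h1
  rcases h1 with h1 | h1
  · exact h1
  · rw [h1, Matrix.trace_zero]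

/-- `1 + N` for a nilpotent `N`. -/
def unip (N : Matrix (Fin 2) (Fin 2) F) (h : N * N = 0) : GL (Fin 2) F :=
  ⟨1 + N, 1 - N, by rw [add_mul, one_mul, mul_sub, mul_one, h]; abel,
    by rw [sub_mul, one_mul, mul_add, mul_one, h]; abel⟩

theorem unip_pow (N : Matrix (Fin 2) (Fin 2) F) (h : N * N = 0) (k : ℕ) :
    (unip N h ^ k).val = 1 + (k : F) • N := by
  induction k with
  | zero => simp
  | succ k ih =>
    rw [pow_succ, Units.val_mul, ih]
    show (1 + (k : F) • N) * (1 + N) = _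
    rw [add_mul, one_mul, mul_add, mul_one, smul_mul_assoc, h, smul_zero, add_zero, Nat.cast_succ,
      add_smul, one_smul]
    abel

theorem two_ne {p : ℕ} [CharP F p] [hp : Fact p.Prime] (hp2 : p ≠ 2) : (2 : F) ≠ 0 := fun e => by
  have : ((2 : ℕ) : F) = 0 := by exact_mod_cast e
  rw [CharP.cast_eq_zero_iff F p] at this
  exact hp2 ((Nat.prime_dvd_prime_iff_eq hp.out Nat.prime_two).1 this)

variable {p : ℕ} [hp : Fact p.Prime] [CharP F p]

theorem unip_pr_pow (N : Matrix (Fin 2) (Fin 2) F) (h : N * N = 0) : pr (unip N h) ^ p = 1 := by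
  rw [← map_pow, show unip N h ^ p = 1 from Units.ext (by
    rw [unip_pow, CharP.cast_eq_zero, zero_smul, add_zero, Units.val_one]), map_one]

theorem unip_inj (hp2 : p ≠ 2) {N N' : Matrix (Fin 2) (Fin 2) F} {h : N * N = 0}
    {h' : N' * N' = 0} (e : pr (unip N h) = pr (unip N' h')) : N = N' := by
  obtain ⟨l, hl⟩ := pr_eq_iff.1 e
  change 1 + N' = l • (1 + N) at hl
  have ht := congrArg Matrix.trace hl
  rw [Matrix.trace_smul, Matrix.trace_add, Matrix.trace_add, (trace_eq_zero_of_sq h).1,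
    (trace_eq_zero_of_sq h').1, Matrix.trace_one, Fintype.card_fin, add_zero, smul_eq_mul,
    Nat.cast_ofNat] at ht
  have hl1 : l = 1 := by
    field_simp [two_ne (F := F) hp2] at ht
    exact ht.symm
  rw [hl1, one_smul] at hl
  exact (add_left_cancel hl).symm

theorem unip_ne (hp2 : p ≠ 2) {N : Matrix (Fin 2) (Fin 2) F} {h : N * N = 0} (hN : N ≠ 0) :
    pr (unip N h) ≠ 1 := fun e => hN (unip_inj hp2 (h' := (zero_mul 0)) (e.trans (by
      rw [show unip (0 : Matrix (Fin 2) (Fin 2) F) (zero_mul 0) = 1 from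
        Units.ext (add_zero _), map_one])))

theorem exists_unip [Finite F] {x : PG} (hx : orderOf x = p) :
    ∃ (N : Matrix (Fin 2) (Fin 2) F) (h : N * N = 0), N ≠ 0 ∧ pr (unip N h) = x := by
  haveI : CharP (Matrix (Fin 2) (Fin 2) F) p := inferInstance
  obtain ⟨g, rfl⟩ : ∃ g, pr g = x := QuotientGroup.mk_surjective x
  have h1 : pr (g ^ p) = 1 := by rw [map_pow, ← hx, pow_orderOf_eq_one]
  obtain ⟨l, hl⟩ := mem_center.1 ((QuotientGroup.eq_one_iff _).1 h1)
  rw [Units.val_pow_eq_pow_val] at hl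
  obtain ⟨μ, hμ⟩ := (bijective_frobenius F p).2 l
  rw [frobenius_def] at hμ
  have hn : IsNilpotent (g.val - μ • 1) := ⟨p, by
    rw [sub_pow_char_of_commute (p := p) (Commute.smul_right (Commute.one_right g.val) μ), hl, smul_pow,
      one_pow, hμ, sub_self]⟩
  have hμ0 : μ ≠ 0 := fun e => by
    rw [e, zero_smul, sub_zero] at hn
    exact g.isUnit.not_isNilpotent hn
  have hsq := sq_zero_of_nilpotent hn
  have hN : (μ⁻¹ • (g.val - μ • 1)) * (μ⁻¹ • (g.val - μ • 1)) = 0 := by
    rw [smul_mul_assoc, mul_smul_comm, hsq, smul_zero, smul_zero]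
  have he : pr (unip _ hN) = pr g := pr_eq_iff.2 ⟨μ, by
    show g.val = μ • (1 + μ⁻¹ • (g.val - μ • 1))
    rw [smul_add, smul_smul, mul_inv_cancel₀ hμ0, one_smul, add_sub_cancel]⟩
  refine ⟨_, hN, fun e => ?_, he⟩
  rw [← he, show unip _ hN = 1 from Units.ext (by
    show 1 + μ⁻¹ • (g.val - μ • 1) = 1
    rw [e, add_zero]), map_one, orderOf_one] at hx
  exact hp.out.one_lt.ne hx

theorem exists_lin {N g : Matrix (Fin 2) (Fin 2) F} (hp2 : p ≠ 2) (hN : N * N = 0) (hN0 : N ≠ 0)
    (h : g * N = N * g) : ∃ α β : F, g = α • 1 + β • N := by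
  obtain ⟨ht, hd⟩ := trace_eq_zero_of_sq hN
  rw [Matrix.trace_fin_two] at ht
  rw [Matrix.det_fin_two] at hd
  have h11 : N 1 1 = -N 0 0 := by linear_combination ht
  rw [h11] at hd
  have e00 := congrFun (congrFun h 0) 0
  have e01 := congrFun (congrFun h 0) 1
  have e10 := congrFun (congrFun h 1) 0
  simp only [Matrix.mul_apply, Fin.sum_univ_two, h11] at e00 e01 e10
  by_cases hb : N 0 1 = 0
  · rw [hb] at hd e00 e01
    have ha : N 0 0 = 0 := mul_self_eq_zero.1 (by linear_combination -hd)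
    have hc : N 1 0 ≠ 0 := fun hc => hN0 (by
      ext i j; fin_cases i <;> fin_cases j <;> simp [ha, hb, hc, h11])
    rw [ha] at e00 e01 e10
    refine ⟨g 0 0, g 1 0 / N 1 0, ?_⟩
    have x0 : g 0 1 = 0 := by
      rcases mul_eq_zero.1 (show g 0 1 * N 1 0 = 0 by linear_combination e00) with h | h
      · exact h
      · exact absurd h hc
    have w0 : g 0 0 = g 1 1 := mul_right_cancel₀ hc (by linear_combination -e10)
    ext i j; fin_cases i <;> fin_cases j <;> simp [ha, hb, h11, x0, w0, hc]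
  · refine ⟨g 0 0 - g 0 1 / N 0 1 * N 0 0, g 0 1 / N 0 1, ?_⟩
    have w0 : g 1 1 = g 0 0 - 2 * (g 0 1 / N 0 1) * N 0 0 := by
      field_simp
      linear_combination -e01
    have y0 : g 1 0 = g 0 1 / N 0 1 * N 1 0 := by
      field_simp
      linear_combination -e00
    ext i j; fin_cases i <;> fin_cases j <;> simp [h11, w0, y0, hb] <;> ring

theorem commute_unip (hp2 : p ≠ 2) {N : Matrix (Fin 2) (Fin 2) F} {h : N * N = 0} (hN : N ≠ 0)
    {y : PG} (hy : Commute y (pr (unip N h))) : y ^ p = 1 := by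
  haveI : CharP (Matrix (Fin 2) (Fin 2) F) p := inferInstance
  obtain ⟨g, rfl⟩ : ∃ g, pr g = y := QuotientGroup.mk_surjective y
  have e1 : pr (g * unip N h) = pr (unip N h * g) := by rw [map_mul, map_mul]; exact hy
  obtain ⟨l, hl⟩ := pr_eq_iff.1 e1
  rw [Units.val_mul, Units.val_mul] at hl
  change (1 + N) * g.val = l • (g.val * (1 + N)) at hl
  have hl' : 1 + N = l • (g.val * (1 + N) * g⁻¹.val) := by
    rw [← smul_mul_assoc, ← hl, Units.mul_inv_cancel_right]
  have ht := congrArg Matrix.trace hl'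
  rw [Matrix.trace_smul, Matrix.trace_units_conj, Matrix.trace_add, (trace_eq_zero_of_sq h).1,
    Matrix.trace_one, Fintype.card_fin, add_zero, smul_eq_mul, Nat.cast_ofNat] at ht
  have hl1 : l = 1 := by
    field_simp [two_ne (F := F) hp2] at ht
    exact ht.symm
  rw [hl1, one_smul, mul_add, add_mul, mul_one, one_mul, add_left_cancel_iff] at hl
  obtain ⟨α, β, hg⟩ := exists_lin hp2 h hN hl.symm
  rw [← map_pow]
  refine (QuotientGroup.eq_one_iff _).2 (mem_center.2 ⟨α ^ p, ?_⟩)
  rw [Units.val_pow_eq_pow_val, hg, add_pow_char_of_commute (p := p)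
    ((Commute.one_left _).smul_left α |>.smul_right β), smul_pow, one_pow, smul_pow,
    show N ^ p = 0 from ?_, smul_zero, add_zero]
  rw [← Nat.sub_add_cancel hp.out.two_le, pow_add, pow_two, h, mul_zero]

/-- Every element of order divisible by `p` has order `p`. -/
theorem order_eq (hp2 : p ≠ 2) [Finite F] {y : PG} (hy : p ∣ orderOf y) : orderOf y = p := by
  have h0 : orderOf y ≠ 0 := (orderOf_pos y).ne'
  have hx : orderOf (y ^ (orderOf y / p)) = p := by
    rw [orderOf_pow_of_dvd (Nat.div_pos (Nat.le_of_dvd (orderOf_pos y) hy) hp.out.pos).ne'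
      (Nat.div_dvd_of_dvd hy), Nat.div_div_self hy h0]
  obtain ⟨N, h, hN, e⟩ := exists_unip hx
  have hc := commute_unip hp2 hN (y := y) (by rw [e]; exact (Commute.refl y).pow_right _)
  exact Nat.dvd_antisymm (orderOf_dvd_of_pow_eq_one hc) hy

/-- Coordinates of the matrices of trace zero. -/
def tracelessEquiv : {M : Matrix (Fin 2) (Fin 2) F // M.trace = 0} ≃ F × F × F where
  toFun M := (M.1 0 0, M.1 0 1, M.1 1 0)
  invFun v := ⟨!![v.1, v.2.1; v.2.2, -v.1], by simp [Matrix.trace_fin_two]⟩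
  left_inv M := by
    have h := M.2
    rw [Matrix.trace_fin_two, add_comm, ← eq_neg_iff_add_eq_zero] at h
    ext i j
    fin_cases i <;> fin_cases j <;> simp [h]
  right_inv v := by simp

theorem tracelessEquiv_det (M : {M : Matrix (Fin 2) (Fin 2) F // M.trace = 0}) :
    M.1.det = -((tracelessEquiv M).1 ^ 2 + (tracelessEquiv M).2.1 * (tracelessEquiv M).2.2) := by
  have h := M.2
  rw [Matrix.trace_fin_two, add_comm, ← eq_neg_iff_add_eq_zero] at h
  rw [Matrix.det_fin_two, h]
  simp [tracelessEquiv]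
  ring

theorem card_cone [Fintype F] :
    Nat.card {v : F × F × F // v.1 ^ 2 + v.2.1 * v.2.2 = 0} = Fintype.card F ^ 2 := by
  classical
  let e : {v : F × F × F // v.1 ^ 2 + v.2.1 * v.2.2 = 0} ≃ ({c : F // c ≠ 0} × F) ⊕ F :=
    { toFun := fun v => if hc : v.1.2.2 = 0 then Sum.inr v.1.2.1 else Sum.inl (⟨v.1.2.2, hc⟩, v.1.1)
      invFun := Sum.elim (fun w => ⟨(w.2, -w.2 ^ 2 / w.1.1, w.1.1), by field_simp [w.1.2]; ring⟩)
        (fun b => ⟨(0, b, 0), by simp⟩)
      left_inv := fun ⟨⟨a, b, c⟩, hv⟩ => by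
        by_cases hc : c = 0
        · subst hc
          simp only [mul_zero, add_zero] at hv
          have ha : a = 0 := pow_eq_zero_iff two_ne_zero |>.1 hv
          simp [ha]
        · simp only [dif_neg hc, Sum.elim_inl, Subtype.mk.injEq, Prod.mk.injEq, true_and, and_true]
          field_simp
          linear_combination -hv
      right_inv := fun w => by
        rcases w with ⟨⟨c, hc⟩, a⟩ | b
        · simp [hc]
        · simp }
  rw [Nat.card_congr e, Nat.card_sum, Nat.card_prod, Nat.card_eq_fintype_card (α := F),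
    Nat.card_eq_fintype_card, Fintype.card_subtype_compl, Fintype.card_subtype_eq, ← Nat.succ_mul,
    pow_two]
  congr 1
  have := Fintype.card_pos (α := F)
  omega

theorem card_traceless_det_zero [Fintype F] :
    Nat.card {M : Matrix (Fin 2) (Fin 2) F // M.trace = 0 ∧ M.det = 0} = Fintype.card F ^ 2 := by
  rw [← card_cone, Nat.card_congr (Equiv.subtypeSubtypeEquivSubtypeInter
    (fun M : Matrix (Fin 2) (Fin 2) F => M.trace = 0) (fun M => M.det = 0)).symm]
  exact Nat.card_congr (tracelessEquiv.subtypeEquiv fun M => by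
    rw [tracelessEquiv_det, neg_eq_zero])

theorem card_traceless_det_ne [Fintype F] :
    Nat.card {M : Matrix (Fin 2) (Fin 2) F // M.trace = 0 ∧ M.det ≠ 0} =
      Fintype.card F ^ 3 - Fintype.card F ^ 2 := by
  classical
  rw [← card_traceless_det_zero, Nat.card_congr (Equiv.subtypeSubtypeEquivSubtypeInter
    (fun M : Matrix (Fin 2) (Fin 2) F => M.trace = 0) (fun M => M.det ≠ 0)).symm,
    Nat.card_congr (Equiv.subtypeSubtypeEquivSubtypeInter
    (fun M : Matrix (Fin 2) (Fin 2) F => M.trace = 0) (fun M => M.det = 0)).symm,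
    Nat.card_eq_fintype_card, Nat.card_eq_fintype_card, Fintype.card_subtype_compl,
    Fintype.card_congr tracelessEquiv, Fintype.card_prod, Fintype.card_prod]
  congr 1
  ring

theorem cnt_p [Fintype F] (hp2 : p ≠ 2) : cnt PG p = Fintype.card F ^ 2 - 1 := by
  classical
  let f : {N : {M : Matrix (Fin 2) (Fin 2) F // M.trace = 0 ∧ M.det = 0} //
      N ≠ ⟨0, by simp [Matrix.det_zero]⟩} → {x : PG // orderOf x = p} :=
    fun N => ⟨pr (unip N.1.1 (by rw [sq_fin_two, N.1.2.1, N.1.2.2, zero_smul, zero_smul, sub_zero])),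
      orderOf_eq_prime (unip_pr_pow _ _) (unip_ne hp2 fun e => N.2 (Subtype.ext e))⟩
  have hf : Function.Bijective f := by
    refine ⟨fun N N' e => Subtype.ext (Subtype.ext (unip_inj hp2 (congrArg Subtype.val e))),
      fun x => ?_⟩
    obtain ⟨N, h, hN, e⟩ := exists_unip x.2
    exact ⟨⟨⟨N, trace_eq_zero_of_sq h⟩, fun e' => hN (congrArg Subtype.val e')⟩, Subtype.ext e⟩
  rw [cnt, ← Nat.card_congr (Equiv.ofBijective f hf), ← card_traceless_det_zero,
    Nat.card_eq_fintype_card, Nat.card_eq_fintype_card, Fintype.card_subtype_compl,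
    Fintype.card_subtype_eq]

theorem card_center [Fintype F] :
    Nat.card (Subgroup.center (GL (Fin 2) F)) = Fintype.card F - 1 := by
  classical
  rw [Matrix.GeneralLinearGroup.center_eq_range_scalar,
    ← Nat.card_congr (MonoidHom.ofInjective (fun a b e => ?_)).toEquiv, Nat.card_eq_fintype_card,
    Fintype.card_units]
  exact Units.ext (by
    have := congrArg (fun g : GL (Fin 2) F => g.val 0 0) e
    simpa using this)

theorem trace_zero_iff (hp2 : p ≠ 2) (g : GL (Fin 2) F) :
    g.val.trace = 0 ↔ orderOf (pr g) = 2 := by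
  have key : (pr g) ^ 2 = 1 ↔ ∃ l : F, g.val * g.val = l • 1 := by
    rw [← map_pow, pr, QuotientGroup.mk'_apply, QuotientGroup.eq_one_iff, mem_center,
      Units.val_pow_eq_pow_val, pow_two]
  have h0 : pr g = 1 ↔ ∃ l : F, g.val = l • 1 := by
    rw [pr, QuotientGroup.mk'_apply, QuotientGroup.eq_one_iff, mem_center]
  constructor
  · intro ht
    refine orderOf_eq_prime (key.2 ⟨-g.val.det, ?_⟩) fun e => ?_
    · rw [sq_fin_two, ht, zero_smul, zero_sub, neg_smul]
    · obtain ⟨l, hl⟩ := h0.1 e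
      rw [hl, Matrix.trace_smul, Matrix.trace_one, Fintype.card_fin, smul_eq_mul,
        Nat.cast_ofNat, mul_eq_zero, or_iff_left (two_ne (F := F) hp2)] at ht
      rw [ht, zero_smul] at hl
      exact g.ne_zero hl
  · intro ho
    have h2 := pow_orderOf_eq_one (pr g)
    rw [ho] at h2
    obtain ⟨l, hl⟩ := key.1 h2
    by_contra ht
    rw [sq_fin_two, sub_eq_iff_eq_add, ← add_smul] at hl
    have h1 : pr g = 1 := h0.2 ⟨g.val.trace⁻¹ * (l + g.val.det), by
      rw [← smul_smul, ← hl, smul_smul, inv_mul_cancel₀ ht, one_smul]⟩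
    rw [h1, orderOf_one] at ho
    omega

theorem cnt_two [Fintype F] (hp2 : p ≠ 2) : cnt PG 2 = Fintype.card F ^ 2 := by
  classical
  have e1 : {M : Matrix (Fin 2) (Fin 2) F // M.trace = 0 ∧ M.det ≠ 0} ≃
      ((QuotientGroup.mk : GL (Fin 2) F → PG) ⁻¹' {x | orderOf x = 2}) :=
    { toFun := fun M => ⟨Matrix.GeneralLinearGroup.mkOfDetNeZero M.1 M.2.2,
        (trace_zero_iff hp2 (Matrix.GeneralLinearGroup.mkOfDetNeZero M.1 M.2.2)).1 M.2.1⟩
      invFun := fun g => ⟨g.1.val, (trace_zero_iff hp2 g.1).2 g.2,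
        (Matrix.isUnit_iff_isUnit_det _).1 g.1.isUnit |>.ne_zero⟩
      left_inv := fun M => rfl
      right_inv := fun g => Subtype.ext (Units.ext rfl) }
  have h := Nat.card_congr (e1.trans (QuotientGroup.preimageMkEquivSubgroupProdSet _ _))
  rw [card_traceless_det_ne, Nat.card_prod, card_center] at h
  have hq : 2 ≤ Fintype.card F := Fintype.one_lt_card
  have e3 : Fintype.card F ^ 3 - Fintype.card F ^ 2 = (Fintype.card F - 1) * Fintype.card F ^ 2 := by
    rw [Nat.sub_mul, one_mul, ← pow_succ']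
  rw [e3] at h
  exact (Nat.eq_of_mul_eq_mul_left (by omega) h).symm

/-- Every number of elements of given order is `1`, `q² - 1` or divisible by `q`. -/
theorem cnt_cases [Fintype F] (hp2 : p ≠ 2) (n : ℕ) :
    cnt PG n = 1 ∨ cnt PG n = Fintype.card F ^ 2 - 1 ∨ Fintype.card F ∣ cnt PG n := by
  by_cases h1 : n = 1
  · subst h1; exact Or.inl cnt_one
  by_cases hp' : p ∣ n
  · by_cases hn : n = p
    · exact Or.inr (Or.inl (hn ▸ cnt_p hp2))
    · refine Or.inr (Or.inr ?_)
      rw [cnt, Nat.card_eq_zero.2 (Or.inl ⟨fun (g : {g : PG // orderOf g = n}) =>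
        hn (g.2.symm.trans (order_eq hp2 (g.2.symm ▸ hp')))⟩)]
      exact dvd_zero _
  refine Or.inr (Or.inr ?_)
  have hN : ∀ b : F, (!![0, b; 0, 0] : Matrix (Fin 2) (Fin 2) F) * !![0, b; 0, 0] = 0 := fun b => by
    ext i j; fin_cases i <;> fin_cases j <;> simp
  let φ : Multiplicative F →* PG :=
    MonoidHom.mk' (fun b => pr (unip !![0, b.toAdd; 0, 0] (hN _))) fun a b => by
      rw [← map_mul]
      refine congrArg pr (Units.ext ?_)
      show 1 + _ = (1 + !![0, a.toAdd; 0, 0]) * (1 + !![0, b.toAdd; 0, 0])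
      ext i j; fin_cases i <;> fin_cases j <;> simp [Matrix.mul_apply, Fin.sum_univ_two, add_comm]
  have hφ : Function.Injective φ := fun a b e => by
    have := congrFun (congrFun (unip_inj hp2 (show pr (unip _ (hN a.toAdd)) = pr (unip _ (hN b.toAdd))
      from e)) 0) 1
    simpa using this
  letI : MulAction φ.range {g : PG // orderOf g = n} :=
    { smul := fun u g => ⟨(u : PG) * g.1 * (u : PG)⁻¹, by
        rw [← MulAut.conj_apply, MulEquiv.orderOf_eq, g.2]⟩
      one_smul := fun g => Subtype.ext (by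
        show (1 : PG) * g.1 * (1 : PG)⁻¹ = g.1
        rw [inv_one, mul_one, one_mul])
      mul_smul := fun u v g => Subtype.ext (by
        show ((u * v : φ.range) : PG) * g.1 * ((u * v : φ.range) : PG)⁻¹ =
          (u : PG) * ((v : PG) * g.1 * (v : PG)⁻¹) * (u : PG)⁻¹
        rw [Subgroup.coe_mul, _root_.mul_inv_rev]
        simp only [mul_assoc]) }
  have h := free_dvd (U := φ.range) (α := {g : PG // orderOf g = n}) (fun u g hu => by
    obtain ⟨_, b, rfl⟩ := u
    by_contra hb
    have hb' : pr (unip _ (hN b.toAdd)) ≠ 1 := fun e => hb (Subtype.ext e)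
    have hN0 : (!![0, b.toAdd; 0, 0] : Matrix (Fin 2) (Fin 2) F) ≠ 0 := fun e => by
      have hb0 : b = 1 := toAdd_eq_zero.1 (by simpa using congrFun (congrFun e 0) 1)
      exact hb (Subtype.ext (show φ b = 1 by rw [hb0, map_one]))
    have hcomm : Commute g.1 (pr (unip _ (hN b.toAdd))) := by
      have e : pr (unip _ (hN b.toAdd)) * g.1 * (pr (unip _ (hN b.toAdd)))⁻¹ = g.1 :=
        congrArg Subtype.val hu
      exact (mul_inv_eq_iff_eq_mul.1 e).symm
    have := g.2 ▸ orderOf_dvd_of_pow_eq_one (commute_unip hp2 hN0 hcomm)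
    rcases (Nat.dvd_prime hp.out).1 this with e | e
    · exact h1 e
    · exact hp' (e ▸ dvd_rfl))
  rwa [← Nat.card_congr (MonoidHom.ofInjective hφ).toEquiv,
    Nat.card_congr Multiplicative.toAdd, Nat.card_eq_fintype_card] at h

end Cfsg.Agent.NsePGL.Counts
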