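import Mathlib
import Cfsg.Agent.NsePGL.Basic
import Cfsg.Agent.GStructB.FrobeniusCount
import Cfsg.Agent.Lib.Perm.Zassenhaus.Main

/-! A group of order `q(q² - 1)` with the counts of `PGL(2, q)` is a group on a projective line. -/

set_option autoImplicit false
set_option linter.unusedSectionVars false

namespace Cfsg.Agent.NsePGL.Group

open Basic

variable (G : Type*) [Group G] [Finite G]

/-- The hypotheses. -/
structure Hyp (p q : ℕ) : Prop where
  odd : p ≠ 2
  pow : ∃ f : ℕ, 0 < f ∧ q = p ^ f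
  big : 3 < q
  card : Nat.card G = q * (q ^ 2 - 1)
  cases : ∀ n : ℕ, 0 < cnt G n → cnt G n = 1 ∨ cnt G n = q ^ 2 - 1 ∨ q ∣ cnt G n
  sq : ∃ n : ℕ, cnt G n = q ^ 2

variable {G} {p q : ℕ} [hp : Fact p.Prime]

theorem odd_q (h : Hyp G p q) : Odd q := by
  obtain ⟨f, -, rfl⟩ := h.pow
  exact (hp.out.odd_of_ne_two h.odd).pow

theorem cop (h : Hyp G p q) : Nat.Coprime p (q ^ 2 - 1) := by
  obtain ⟨f, hf, rfl⟩ := h.pow
  rw [hp.out.coprime_iff_not_dvd]
  intro hd
  have h1 : p ∣ (p ^ f) ^ 2 := dvd_pow (dvd_pow_self p hf.ne') two_ne_zero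
  have h2 : 1 ≤ (p ^ f) ^ 2 := Nat.one_le_pow _ _ (pow_pos hp.out.pos f)
  have h3 := Nat.dvd_sub h1 hd
  rw [Nat.sub_sub_self h2] at h3
  exact hp.out.one_lt.ne' (Nat.dvd_one.1 h3)

theorem cnt_even {n : ℕ} (hn : 2 < n) : Even (cnt G n) := by
  classical
  haveI := Fintype.ofFinite G
  let f : Function.End {g : G // orderOf g = n} := fun g => ⟨g.1⁻¹, by rw [orderOf_inv]; exact g.2⟩
  have hf : f ^ (2 ^ 1) = 1 := by
    funext g
    exact Subtype.ext (inv_inv g.1)
  have h := Equiv.Perm.card_fixedPoints_modEq hf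
  have he : IsEmpty f.fixedPoints := by
    refine ⟨fun ⟨g, hg⟩ => ?_⟩
    have e : g.1⁻¹ = g.1 := congrArg Subtype.val hg
    have h2 : g.1 ^ 2 = 1 := by
      rw [pow_two]
      nth_rewrite 1 [← e]
      exact inv_mul_cancel g.1
    have := Nat.le_of_dvd two_pos (g.2 ▸ orderOf_dvd_of_pow_eq_one h2)
    omega
  rw [Fintype.card_eq_zero (α := f.fixedPoints), ← Nat.card_eq_fintype_card] at h
  exact Nat.even_iff.2 h

theorem cnt_two (h : Hyp G p q) : cnt G 2 = q ^ 2 := by
  obtain ⟨n, hn⟩ := h.sq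
  have hodd : Odd (q ^ 2) := (odd_q h).pow
  have hq := h.big
  obtain ⟨g, hg⟩ := cnt_pos_iff.1 (hn ▸ pow_pos (by omega) 2 : 0 < cnt G n)
  rcases Nat.lt_trichotomy n 2 with h1 | h1 | h1
  · have := orderOf_pos g
    obtain rfl : n = 1 := by omega
    rw [cnt_one] at hn
    nlinarith
  · exact h1 ▸ hn
  · exact absurd (hn ▸ cnt_even h1) (Nat.not_even_iff_odd.2 hodd)

theorem cnt_class (h : Hyp G p q) {n : ℕ} (hn : n ≠ 1) : cnt G n = q ^ 2 - 1 ∨ q ∣ cnt G n := by
  rcases Nat.eq_zero_or_pos (cnt G n) with h0 | h0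
  · exact Or.inr (h0 ▸ dvd_zero _)
  rcases h.cases n h0 with h1 | h1
  · exfalso
    obtain ⟨g, hg⟩ := cnt_pos_iff.1 h0
    have hpos := orderOf_pos g
    rcases Nat.lt_or_ge 2 n with h2 | h2
    · exact Nat.not_even_one (h1 ▸ cnt_even h2)
    · obtain rfl : n = 2 := by omega
      rw [cnt_two h] at h1
      nlinarith [h.big]
  · exact h1

/-- The exceptional orders. -/
noncomputable def exc (G : Type*) [Group G] (q : ℕ) : Finset ℕ :=
  (Nat.card G).divisors.filter fun n => cnt G n = q ^ 2 - 1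

theorem one_notMem_exc (h : Hyp G p q) : 1 ∉ exc G q := fun h1 => by
  have h2 := (Finset.mem_filter.1 h1).2
  rw [cnt_one] at h2
  have : 16 ≤ q ^ 2 := by nlinarith [h.big]
  omega

theorem card_cast (h : Hyp G p q) (D : ℕ → Prop) [DecidablePred D] (h1 : D 1) :
    (Nat.card {g : G // D (orderOf g)} : ZMod q) = 1 - (((exc G q).filter D).card : ZMod q) := by
  classical
  rw [card_filter_orders D, Nat.cast_sum]
  have hmem : 1 ∈ (Nat.card G).divisors.filter D :=
    Finset.mem_filter.2 ⟨Nat.one_mem_divisors.2 Nat.card_pos.ne', h1⟩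
  rw [← Finset.add_sum_erase _ _ hmem, cnt_one, Nat.cast_one, sub_eq_add_neg]
  congr 1
  have hterm : ∀ n ∈ ((Nat.card G).divisors.filter D).erase 1,
      (cnt G n : ZMod q) = if n ∈ exc G q then -1 else 0 := by
    intro n hn
    obtain ⟨hn1, hn2⟩ := Finset.mem_erase.1 hn
    split_ifs with he
    · rw [(Finset.mem_filter.1 he).2, Nat.cast_sub (Nat.one_le_pow _ _ (by linarith [h.big])),
        Nat.cast_pow, ZMod.natCast_self]
      simp
    · rcases cnt_class h hn1 with e | e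
      · exact absurd (Finset.mem_filter.2 ⟨(Finset.mem_filter.1 hn2).1, e⟩) he
      · exact (ZMod.natCast_eq_zero_iff _ _).2 e
  rw [Finset.sum_congr rfl hterm, ← Finset.sum_filter, Finset.sum_const, smul_neg, nsmul_one]
  congr 3
  ext n
  simp only [Finset.mem_filter, Finset.mem_erase, exc]
  refine ⟨fun ⟨⟨_, hd, hD⟩, _, he⟩ => ⟨⟨hd, he⟩, hD⟩, fun ⟨⟨hd, he⟩, hD⟩ => ⟨⟨?_, hd, hD⟩, hd, he⟩⟩
  rintro rfl
  exact one_notMem_exc h (Finset.mem_filter.2 ⟨hd, he⟩)

theorem exc_card (h : Hyp G p q) : (exc G q).card = 1 := by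
  classical
  have hq := h.big
  have hz := card_cast h (fun _ => True) trivial
  rw [Finset.filter_true, show Nat.card {g : G // True} = Nat.card G from
    Nat.card_congr (Equiv.subtypeUnivEquiv fun _ => trivial), h.card, Nat.cast_mul,
    ZMod.natCast_self, zero_mul, eq_comm, sub_eq_zero, ← Nat.cast_one,
    ZMod.natCast_eq_natCast_iff'] at hz
  rw [Nat.mod_eq_of_lt (by omega : 1 < q)] at hz
  have h2 : ∑ n ∈ exc G q, cnt G n ≤ Nat.card G := by
    refine le_trans (Finset.sum_le_sum_of_subset (Finset.filter_subset _ _)) (le_of_eq ?_)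
    have := card_filter_orders (G := G) (fun _ => True)
    rw [Finset.filter_true, show Nat.card {g : G // True} = Nat.card G from
      Nat.card_congr (Equiv.subtypeUnivEquiv fun _ => trivial)] at this
    exact this.symm
  rw [show ∑ n ∈ exc G q, cnt G n = ∑ _n ∈ exc G q, (q ^ 2 - 1) from
      Finset.sum_congr rfl fun n hn => (Finset.mem_filter.1 hn).2,
    Finset.sum_const, smul_eq_mul, h.card] at h2
  have hle : (exc G q).card ≤ q := Nat.le_of_mul_le_mul_right h2 (by
    have : 16 ≤ q ^ 2 := by nlinarith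
    omega)
  rcases lt_or_eq_of_le hle with hl | hl
  · rw [Nat.mod_eq_of_lt hl] at hz; exact hz.symm
  · rw [hl, Nat.mod_self] at hz; omega

theorem exc_eq (h : Hyp G p q) : exc G q = {p} := by
  classical
  obtain ⟨n, hn⟩ := Finset.card_eq_one.1 (exc_card h)
  obtain ⟨f, hf, hqf⟩ := h.pow
  have hmem : n ∈ exc G q := hn ▸ Finset.mem_singleton_self n
  have hdq : q ∣ Nat.card G := h.card ▸ dvd_mul_right _ _
  have h1 := GStructB.FrobeniusCount.dvd_numPowOne hdq
  have h1' : q ∣ Nat.card {g : G // orderOf g ∣ q} := by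
    rw [Nat.card_congr (Equiv.subtypeEquivRight fun g : G => orderOf_dvd_iff_pow_eq_one)]
    exact h1
  rw [← ZMod.natCast_eq_zero_iff, card_cast h (fun m => m ∣ q) (one_dvd q), sub_eq_zero] at h1'
  have hnq : n ∣ q := by
    by_contra hnq
    rw [hn, Finset.filter_singleton, if_neg hnq, Finset.card_empty, Nat.cast_zero] at h1'
    haveI : Fact (1 < q) := ⟨by linarith [h.big]⟩
    exact one_ne_zero h1'
  rw [hqf] at hnq
  obtain ⟨i, -, rfl⟩ := (Nat.dvd_prime_pow hp.out).1 hnq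
  have hc : cnt G (p ^ i) = q ^ 2 - 1 := (Finset.mem_filter.1 hmem).2
  rcases i with _ | _ | i
  · rw [pow_zero] at hmem
    exact absurd hmem (one_notMem_exc h)
  · rw [hn, pow_one]
  · exfalso
    have h2 : p ∣ (p ^ (i + 2)).totient := by
      rw [Nat.totient_prime_pow_succ hp.out]
      exact dvd_mul_of_dvd_left (dvd_pow_self p (Nat.succ_ne_zero i)) _
    have := h2.trans (totient_dvd (G := G) (p ^ (i + 2)))
    rw [hc] at this
    exact hp.out.coprime_iff_not_dvd.1 (cop h) this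

theorem cnt_p (h : Hyp G p q) : cnt G p = q ^ 2 - 1 :=
  (Finset.mem_filter.1 (exc_eq h ▸ Finset.mem_singleton_self p : p ∈ exc G q)).2

/-- Every element of order divisible by `p` has order `p`. -/
theorem sing (h : Hyp G p q) {g : G} (hg : p ∣ orderOf g) : orderOf g = p := by
  classical
  haveI := Fintype.ofFinite G
  have hq := h.big
  have hN : 16 ≤ q ^ 2 := by nlinarith
  have hdvd : q ^ 2 - 1 ∣ Nat.card G := h.card ▸ dvd_mul_left _ _
  have hiff : ∀ x : G, ¬ p ∣ orderOf x ↔ orderOf x ∣ q ^ 2 - 1 := fun x => by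
    refine ⟨fun hx => ?_, fun hx hpx => hp.out.coprime_iff_not_dvd.1 (cop h) (hpx.trans hx)⟩
    obtain ⟨f, -, hqf⟩ := h.pow
    refine Nat.Coprime.dvd_of_dvd_mul_left ?_ (h.card ▸ orderOf_dvd_natCard x)
    rw [hqf]
    exact ((hp.out.coprime_iff_not_dvd.2 hx).symm).pow_right _
  have h1 := GStructB.FrobeniusCount.dvd_numPowOne hdvd
  obtain ⟨R, hR⟩ : ∃ R, R = Nat.card {x : G // orderOf x ∣ q ^ 2 - 1} := ⟨_, rfl⟩
  have h1' : q ^ 2 - 1 ∣ R := by
    rw [hR, Nat.card_congr (Equiv.subtypeEquivRight fun x : G => orderOf_dvd_iff_pow_eq_one)]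
    exact h1
  have h2 := card_cast h (fun m => m ∣ q ^ 2 - 1) (one_dvd _)
  rw [exc_eq h, Finset.filter_singleton, if_neg (hp.out.coprime_iff_not_dvd.1 (cop h)),
    Finset.card_empty, Nat.cast_zero, sub_zero, ← hR] at h2
  obtain ⟨t, ht⟩ := h1'
  have hsum : R + Nat.card {x : G // p ∣ orderOf x} = q * (q ^ 2 - 1) := by
    rw [hR, ← h.card, Nat.card_eq_fintype_card, Nat.card_eq_fintype_card, Nat.card_eq_fintype_card,
      Fintype.card_subtype, Fintype.card_subtype, ← Finset.card_univ]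
    rw [← Finset.card_filter_add_card_filter_not (s := Finset.univ)
      (fun x : G => orderOf x ∣ q ^ 2 - 1)]
    rw [Finset.filter_congr fun x _ =>
      (show p ∣ orderOf x ↔ ¬ orderOf x ∣ q ^ 2 - 1 by rw [← hiff x, not_not])]
  have hsub : Nat.card {x : G // orderOf x = p} ≤ Nat.card {x : G // p ∣ orderOf x} :=
    Nat.card_le_card_of_injective (fun x => ⟨x.1, x.2.symm ▸ dvd_rfl⟩)
      fun a b e => Subtype.ext (by simpa using e)
  have hcp : Nat.card {x : G // orderOf x = p} = q ^ 2 - 1 := cnt_p h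
  -- `t + 1` is a multiple of `q` between `1` and `q`
  have h3 : q ∣ t + 1 := by
    rw [← ZMod.natCast_eq_zero_iff, Nat.cast_add, Nat.cast_one]
    rw [ht, Nat.cast_mul, Nat.cast_sub (by omega : 1 ≤ q ^ 2), Nat.cast_pow, ZMod.natCast_self,
      Nat.cast_one] at h2
    linear_combination (-1 : ZMod q) * h2
  have h4 : (q ^ 2 - 1) * t + (q ^ 2 - 1) ≤ q * (q ^ 2 - 1) := by
    rw [← ht, ← hsum, ← hcp]; omega
  have h5 : t + 1 ≤ q := Nat.le_of_mul_le_mul_left
    (by rwa [Nat.mul_add, mul_one, mul_comm (q ^ 2 - 1) q]) (by omega : 0 < q ^ 2 - 1)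
  have h6 : t + 1 = q := le_antisymm h5 (Nat.le_of_dvd (Nat.succ_pos t) h3)
  have h7 : Nat.card {x : G // p ∣ orderOf x} = q ^ 2 - 1 := by
    rw [ht] at hsum
    have : q * (q ^ 2 - 1) = (q ^ 2 - 1) * t + (q ^ 2 - 1) := by rw [← h6]; ring
    omega
  have hbij : Function.Bijective (fun x : {x : G // orderOf x = p} =>
      (⟨x.1, x.2.symm ▸ dvd_rfl⟩ : {x : G // p ∣ orderOf x})) :=
    (Nat.bijective_iff_injective_and_card _).2
      ⟨fun a b e => Subtype.ext (by simpa using e), hcp.trans h7.symm⟩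
  obtain ⟨x, hx⟩ := hbij.2 ⟨g, hg⟩
  have e : x.1 = g := congrArg Subtype.val hx
  exact e ▸ x.2

theorem cent_exp (h : Hyp G p q) {x : G} (hx : orderOf x = p) {y : G}
    (hy : y ∈ Subgroup.centralizer ({x} : Set G)) : y ^ p = 1 := by
  by_cases hd : p ∣ orderOf y
  · rw [← sing h hd, pow_orderOf_eq_one]
  · have hc : Commute x y := Subgroup.mem_centralizer_singleton_iff.1 hy |>.symm
    have h1 := hc.orderOf_mul_eq_mul_orderOf_of_coprime
      (hx ▸ hp.out.coprime_iff_not_dvd.2 hd)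
    rw [hx] at h1
    have h2 := sing h (g := x * y) (h1 ▸ dvd_mul_right _ _)
    rw [h1] at h2
    rw [orderOf_eq_one_iff.1 ((Nat.mul_eq_left hp.out.ne_zero).1 h2), one_pow]

theorem cent_isPGroup (h : Hyp G p q) {x : G} (hx : orderOf x = p) :
    IsPGroup p (Subgroup.centralizer ({x} : Set G)) :=
  fun y => ⟨1, Subtype.ext (by rw [pow_one]; exact cent_exp h hx y.2)⟩

theorem card_class (x : G) :
    Nat.card {y : G // IsConj x y} * Nat.card (Subgroup.centralizer ({x} : Set G)) = Nat.card G := by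
  have h1 := Subgroup.index_mul_card (MulAction.stabilizer (ConjAct G) x)
  rw [MulAction.index_stabilizer, Nat.card_congr ConjAct.ofConjAct.toEquiv] at h1
  rw [← h1]
  congr 1
  · rw [← Nat.card_coe_set_eq]
    exact Nat.card_congr (Equiv.subtypeEquivRight fun y => by
      rw [ConjAct.mem_orbit_conjAct, isConj_comm])
  · exact Nat.card_congr (ConjAct.toConjAct.toEquiv.subtypeEquiv fun g => by
      rw [Subgroup.mem_centralizer_singleton_iff]
      show _ ↔ ConjAct.toConjAct g • x = x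
      rw [ConjAct.toConjAct_smul, mul_inv_eq_iff_eq_mul])

theorem cent_card (h : Hyp G p q) {x : G} (hx : orderOf x = p) :
    Nat.card (Subgroup.centralizer ({x} : Set G)) = q ∧ ∀ y : G, orderOf y = p → IsConj x y := by
  classical
  have hq := h.big
  have hN : 16 ≤ q ^ 2 := by nlinarith
  obtain ⟨f, -, hqf⟩ := h.pow
  obtain ⟨k, hk⟩ := IsPGroup.iff_card.1 (cent_isPGroup h hx)
  have hdvd : Nat.card (Subgroup.centralizer ({x} : Set G)) ∣ q * (q ^ 2 - 1) :=
    h.card ▸ Subgroup.card_subgroup_dvd_card _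
  have hcq : Nat.card (Subgroup.centralizer ({x} : Set G)) ∣ q :=
    Nat.Coprime.dvd_of_dvd_mul_right (hk ▸ (cop h).pow_left k) hdvd
  have hle : Nat.card {y : G // IsConj x y} ≤ q ^ 2 - 1 := by
    refine (cnt_p h) ▸ Nat.card_le_card_of_injective
      (fun y => (⟨y.1, ?_⟩ : {g : G // orderOf g = p})) fun a b e => Subtype.ext (by simpa using e)
    obtain ⟨c, hc⟩ := isConj_iff.1 y.2
    rw [← hc, ← MulAut.conj_apply, MulEquiv.orderOf_eq, hx]
  have hcl := card_class x
  rw [h.card] at hcl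
  have hcl2 : Nat.card (Subgroup.centralizer ({x} : Set G)) ≤ q := Nat.le_of_dvd (by omega : 0 < q) hcq
  have hC : Nat.card (Subgroup.centralizer ({x} : Set G)) = q := by
    have h' : (q ^ 2 - 1) * q ≤ (q ^ 2 - 1) * Nat.card (Subgroup.centralizer ({x} : Set G)) := by
      rw [mul_comm _ q, ← hcl]
      exact Nat.mul_le_mul_right _ hle
    exact le_antisymm hcl2 (Nat.le_of_mul_le_mul_left h' (by omega : 0 < q ^ 2 - 1))
  refine ⟨hC, fun y hy => ?_⟩
  rw [hC, mul_comm q] at hcl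
  have hcl' : Nat.card {y : G // IsConj x y} = q ^ 2 - 1 := Nat.eq_of_mul_eq_mul_right (by omega) hcl
  have hbij : Function.Bijective (fun y : {y : G // IsConj x y} =>
      (⟨y.1, by obtain ⟨c, hc⟩ := isConj_iff.1 y.2; rw [← hc, ← MulAut.conj_apply, MulEquiv.orderOf_eq, hx]⟩ :
        {g : G // orderOf g = p})) :=
    (Nat.bijective_iff_injective_and_card _).2
      ⟨fun a b e => Subtype.ext (by simpa using e), hcl'.trans (cnt_p h).symm⟩
  obtain ⟨z, hz⟩ := hbij.2 ⟨y, hy⟩
  have e : z.1 = y := congrArg Subtype.val hz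
  exact e ▸ z.2

theorem invol_fpf (h : Hyp G p q) {t u : G} (ht : orderOf t = 2) (hu : orderOf u = p) :
    t * u ≠ u * t := fun e => by
  have := orderOf_dvd_of_pow_eq_one (cent_exp h hu (Subgroup.mem_centralizer_singleton_iff.2 e))
  rw [ht, Nat.prime_dvd_prime_iff_eq Nat.prime_two hp.out] at this
  exact h.odd this.symm

/-- An involution normalizing the centralizer of an element of order `p` inverts it. -/
theorem invol_inverts (h : Hyp G p q) {x t : G} (hx : orderOf x = p) (ht : orderOf t = 2)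
    (hn : ∀ u ∈ Subgroup.centralizer ({x} : Set G), t * u * t⁻¹ ∈ Subgroup.centralizer ({x} : Set G))
    {u : G} (hu : u ∈ Subgroup.centralizer ({x} : Set G)) : t * u * t⁻¹ = u⁻¹ := by
  classical
  let C := Subgroup.centralizer ({x} : Set G)
  let φ : C →* C :=
    MonoidHom.mk' (fun v => ⟨t * v * t⁻¹, hn v v.2⟩) fun a b => Subtype.ext (by simp [mul_assoc])
  have ht2 : t * t = 1 := by rw [← pow_two, ← ht, pow_orderOf_eq_one]
  have hfp : MonoidHom.FixedPointFree φ := fun v hv => by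
    by_contra hv1
    refine invol_fpf h ht (orderOf_eq_prime (cent_exp h hx v.2) fun e => hv1 (Subtype.ext e)) ?_
    exact mul_inv_eq_iff_eq_mul.1 (congrArg Subtype.val hv)
  have h2 : (⇑φ)^[2] = _root_.id := by
    funext v
    refine Subtype.ext ?_
    show t * (t * v * t⁻¹) * t⁻¹ = v
    simp only [← mul_assoc, ht2, one_mul]
    rw [mul_assoc, ← _root_.mul_inv_rev, ht2, inv_one, mul_one]
  exact congrArg Subtype.val (congrFun (hfp.coe_eq_inv_of_sq_eq_one h2) ⟨u, hu⟩)

theorem cent_comm (h : Hyp G p q) {x : G} (hx : orderOf x = p) {u v : G}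
    (hu : u ∈ Subgroup.centralizer ({x} : Set G)) (hv : v ∈ Subgroup.centralizer ({x} : Set G)) :
    u * v = v * u := by
  obtain ⟨g, hg⟩ := isConj_iff.1 ((cent_card h hx).2 x⁻¹ (by rw [orderOf_inv, hx]))
  obtain ⟨a, m, hm, he⟩ := Nat.exists_eq_pow_mul_and_not_dvd (orderOf_pos g).ne' 2 (by norm_num)
  have hodd : Odd m := Nat.not_even_iff_odd.1 fun e => hm (even_iff_two_dvd.1 e)
  have hg2 : Commute x (g * g) := by
    show x * (g * g) = g * g * x
    have e2 : g * x⁻¹ * g⁻¹ = x := by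
      rw [← inv_inj, mul_inv_rev, mul_inv_rev, inv_inv, inv_inv, ← mul_assoc, hg]
    calc x * (g * g) = g * (g * x * g⁻¹) * g⁻¹ * (g * g) := by rw [hg, e2]
      _ = g * g * x := by group
  obtain ⟨t, ht⟩ : ∃ t, t = g ^ m := ⟨_, rfl⟩
  have htx : t * x * t⁻¹ = x⁻¹ := by
    obtain ⟨j, rfl⟩ := hodd
    have hc : Commute x ((g * g) ^ j) := hg2.pow_right j
    have et : t = g * (g * g) ^ j := by rw [ht, ← pow_two, ← pow_mul, ← pow_succ']
    rw [et]
    calc g * (g * g) ^ j * x * (g * (g * g) ^ j)⁻¹ = g * ((g * g) ^ j * x) * ((g * g) ^ j)⁻¹ * g⁻¹ := by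
          group
      _ = g * (x * (g * g) ^ j) * ((g * g) ^ j)⁻¹ * g⁻¹ := by rw [hc.eq]
      _ = g * x * g⁻¹ := by group
      _ = x⁻¹ := hg
  have hxne : x⁻¹ ≠ x := fun e => by
    have h2 : x ^ 2 = 1 := by
      rw [pow_two]
      nth_rewrite 1 [← e]
      exact inv_mul_cancel x
    have := orderOf_dvd_of_pow_eq_one h2
    rw [hx, Nat.prime_dvd_prime_iff_eq hp.out Nat.prime_two] at this
    exact h.odd this
  have ht1 : t ≠ 1 := fun e => hxne (by rw [← htx, e]; group)
  have hto : orderOf t = 2 ^ a := by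
    rw [ht, orderOf_pow_of_dvd (fun e => by rw [e] at hm; exact hm (dvd_zero _))
      (he ▸ dvd_mul_left _ _), he, Nat.mul_div_cancel _ (Nat.pos_of_ne_zero fun e => hm (by rw [e]; exact dvd_zero _))]
  have htc : t * t ∈ Subgroup.centralizer ({x} : Set G) := by
    rw [Subgroup.mem_centralizer_singleton_iff]
    have e2 : t * x⁻¹ * t⁻¹ = x := by
      rw [← inv_inj, mul_inv_rev, mul_inv_rev, inv_inv, inv_inv, ← mul_assoc, htx]
    calc t * t * x = t * (t * x * t⁻¹) * t⁻¹ * (t * t) := by group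
      _ = x * (t * t) := by rw [htx, e2]
  have ht2 : orderOf t = 2 := by
    refine orderOf_eq_prime ?_ ht1
    have h1 := orderOf_dvd_of_pow_eq_one (cent_exp h hx htc)
    have h2 : orderOf (t * t) ∣ 2 ^ a := hto ▸ (pow_two t ▸ orderOf_pow_dvd 2)
    have h3 := Nat.dvd_gcd h1 h2
    rw [((Nat.coprime_primes hp.out Nat.prime_two).2 h.odd).pow_right a |>.gcd_eq_one,
      Nat.dvd_one, orderOf_eq_one_iff] at h3
    rw [pow_two, h3]
  have hn : ∀ w ∈ Subgroup.centralizer ({x} : Set G),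
      t * w * t⁻¹ ∈ Subgroup.centralizer ({x} : Set G) := by
    intro w hw
    rw [Subgroup.mem_centralizer_singleton_iff] at hw ⊢
    have hc : Commute (t * w * t⁻¹) (t * x * t⁻¹) := by
      have := (show Commute w x from hw).map (MulAut.conj t).toMonoidHom
      simpa using this
    rw [htx] at hc
    exact (inv_inv x ▸ hc.inv_right).eq
  have hi : ∀ w ∈ Subgroup.centralizer ({x} : Set G), t * w * t⁻¹ = w⁻¹ := fun w hw =>
    invol_inverts h hx ht2 hn hw
  have h4 := hi _ (mul_mem hu hv)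
  rw [show t * (u * v) * t⁻¹ = (t * u * t⁻¹) * (t * v * t⁻¹) by group, hi u hu, hi v hv,
    ← mul_inv_rev, inv_inj] at h4
  exact h4.symm

/-- Every Sylow subgroup is the centralizer of each of its nontrivial elements. -/
theorem sylow_eq (h : Hyp G p q) (P : Sylow p G) :
    Nat.card (P : Subgroup G) = q ∧ ∀ u ∈ (P : Subgroup G), u ≠ 1 →
      orderOf u = p ∧ Subgroup.centralizer ({u} : Set G) = (P : Subgroup G) := by
  classical
  have hq := h.big
  obtain ⟨f, hf, hqf⟩ := h.pow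
  have hN : q ^ 2 - 1 ≠ 0 := by
    have : 16 ≤ q ^ 2 := by nlinarith
    omega
  have hP : Nat.card (P : Subgroup G) = q := by
    have h2 : ((p ^ f) ^ 2 - 1).factorization p = 0 :=
      Nat.factorization_eq_zero_of_not_dvd (hqf ▸ hp.out.coprime_iff_not_dvd.1 (cop h))
    rw [P.card_eq_multiplicity, h.card, Nat.factorization_mul (by omega) hN, Finsupp.add_apply,
      hqf, hp.out.factorization_pow, Finsupp.single_eq_same, h2, add_zero]
  haveI : Nontrivial (P : Subgroup G) := Finite.one_lt_card_iff_nontrivial.1 (by omega)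
  have hord : ∀ u ∈ (P : Subgroup G), u ≠ 1 → orderOf u = p := fun u hu hu1 => by
    obtain ⟨k, hk⟩ := IsPGroup.iff_orderOf.1 P.2 ⟨u, hu⟩
    rw [Subgroup.orderOf_mk] at hk
    refine sing h (hk ▸ dvd_pow_self p fun e => hu1 ?_)
    rw [e, pow_zero, orderOf_eq_one_iff] at hk
    exact hk
  haveI := P.2.center_nontrivial
  obtain ⟨⟨⟨z, hz⟩, hzc⟩, hz1⟩ := exists_ne (1 : Subgroup.center (P : Subgroup G))
  have hzp : orderOf z = p := hord z hz fun e => hz1 (Subtype.ext (Subtype.ext e))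
  have hPz : (P : Subgroup G) = Subgroup.centralizer ({z} : Set G) := by
    refine Subgroup.eq_of_le_of_card_ge (fun u hu => ?_) (by rw [(cent_card h hzp).1, hP])
    rw [Subgroup.mem_centralizer_singleton_iff]
    exact congrArg Subtype.val (Subgroup.mem_center_iff.1 hzc ⟨u, hu⟩)
  refine ⟨hP, fun u hu hu1 => ⟨hord u hu hu1, ?_⟩⟩
  symm
  refine Subgroup.eq_of_le_of_card_ge (fun v hv => ?_) (by rw [(cent_card h (hord u hu hu1)).1, hP])
  rw [Subgroup.mem_centralizer_singleton_iff]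
  exact cent_comm h hzp (hPz ▸ hv) (hPz ▸ hu)

end Cfsg.Agent.NsePGL.Group
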