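import Mathlib
import Cfsg.Agent.NsePGL.Group

/-! The action on the Sylow subgroups. -/

set_option autoImplicit false
set_option linter.unusedSectionVars false

namespace Cfsg.Agent.NsePGL.Line

open Basic Group MulAction

variable {G : Type*} [Group G] [Finite G] {p q : ℕ} [hp : Fact p.Prime]

theorem sylow_ext (h : Hyp G p q) {P Q : Sylow p G} {u : G} (hP : u ∈ (P : Subgroup G))
    (hQ : u ∈ (Q : Subgroup G)) (hu : u ≠ 1) : P = Q :=
  Sylow.ext (((sylow_eq h P).2 u hP hu).2.symm.trans ((sylow_eq h Q).2 u hQ hu).2)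

theorem card_sylow (h : Hyp G p q) : Nat.card (Sylow p G) = q + 1 := by
  classical
  have hq := h.big
  haveI := Fintype.ofFinite (Sylow p G)
  let f : (Σ P : Sylow p G, {u : (P : Subgroup G) // u ≠ 1}) → {g : G // orderOf g = p} :=
    fun a => ⟨(a.2.1 : G), ((sylow_eq h a.1).2 _ a.2.1.2 fun e => a.2.2 (Subtype.ext e)).1⟩
  have hf : Function.Bijective f := by
    constructor
    · rintro ⟨P, ⟨u, hu⟩, hu1⟩ ⟨Q, ⟨v, hv⟩, hv1⟩ e
      obtain rfl : u = v := congrArg Subtype.val e
      obtain rfl : P = Q := sylow_ext h hu hv fun e => hu1 (Subtype.ext e)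
      rfl
    · rintro ⟨g, hg⟩
      obtain ⟨P, hP⟩ := (cent_isPGroup h hg).exists_le_sylow
      exact ⟨⟨P, ⟨g, hP (Subgroup.mem_centralizer_singleton_iff.2 rfl)⟩, fun e => by
        rw [show g = 1 from congrArg Subtype.val e, orderOf_one] at hg
        exact hp.out.one_lt.ne hg⟩, rfl⟩
  have h1 := Nat.card_congr (Equiv.ofBijective f hf)
  rw [Nat.card_sigma, show Nat.card {g : G // orderOf g = p} = q ^ 2 - 1 from cnt_p h,
    Finset.sum_congr rfl (g := fun _ => q - 1) fun P _ => ?_] at h1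
  · rw [Finset.sum_const, Finset.card_univ, smul_eq_mul, ← Nat.card_eq_fintype_card] at h1
    refine Nat.eq_of_mul_eq_mul_right (by omega : 0 < q - 1) (h1.trans ?_)
    rw [← Nat.sq_sub_sq q 1, one_pow]
  · haveI := Fintype.ofFinite (P : Subgroup G)
    rw [Nat.card_eq_fintype_card, Fintype.card_subtype_compl, Fintype.card_subtype_eq,
      ← Nat.card_eq_fintype_card, (sylow_eq h P).1]

theorem mem_of_fix (h : Hyp G p q) {P : Sylow p G} {u : G} (hu : u ∈ (P : Subgroup G))
    {Q : Sylow p G} (hQ : u • Q = Q) : u ∈ (Q : Subgroup G) := by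
  rw [Sylow.smul_eq_iff_mem_normalizer] at hQ
  have := IsPGroup.inf_normalizer_sylow P.2 Q
  exact (this ▸ Subgroup.mem_inf.2 ⟨hu, hQ⟩ : u ∈ (P : Subgroup G) ⊓ Q).2

theorem eq_one_of_fix (h : Hyp G p q) {P : Sylow p G} {u : G} (hu : u ∈ (P : Subgroup G))
    {Q : Sylow p G} (hQP : Q ≠ P) (hQ : u • Q = Q) : u = 1 := by
  by_contra hu1
  exact hQP (sylow_ext h (mem_of_fix h hu hQ) hu hu1)

theorem fix_self {P : Sylow p G} {u : G} (hu : u ∈ (P : Subgroup G)) : u • P = P :=
  Sylow.smul_eq_iff_mem_normalizer.2 (Subgroup.le_normalizer hu)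

theorem conj_mem {P : Sylow p G} {g u : G} (hg : g • P = P) (hu : u ∈ (P : Subgroup G)) :
    g * u * g⁻¹ ∈ (P : Subgroup G) :=
  (Subgroup.mem_normalizer_iff.1 (Sylow.smul_eq_iff_mem_normalizer.1 hg) u).1 hu

theorem exists_map (h : Hyp G p q) {P B C : Sylow p G} (hB : B ≠ P) (hC : C ≠ P) :
    ∃! u : (P : Subgroup G), (u : G) • B = C := by
  classical
  have hq := h.big
  haveI := Fintype.ofFinite (Sylow p G)
  let f : ↥(P : Subgroup G) → {Q : Sylow p G // Q ≠ P} := fun u => ⟨(u : G) • B, fun e =>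
    hB (MulAction.injective (u : G) (e.trans (fix_self u.2).symm))⟩
  have hinj : Function.Injective f := fun u v e => by
    have e1 : (u : G) • B = (v : G) • B := congrArg Subtype.val e
    have e2 : (((v⁻¹ * u : (P : Subgroup G))) : G) • B = B := by
      rw [Subgroup.coe_mul, Subgroup.coe_inv, mul_smul, e1, inv_smul_smul]
    exact (inv_mul_eq_one.1 (Subtype.ext (eq_one_of_fix h (SetLike.coe_mem _) hB e2))).symm
  have hbij : Function.Bijective f := (Nat.bijective_iff_injective_and_card f).2 ⟨hinj, by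
    rw [(sylow_eq h P).1, Nat.card_eq_fintype_card, Fintype.card_subtype_compl,
      Fintype.card_subtype_eq, ← Nat.card_eq_fintype_card, card_sylow h]
    omega⟩
  obtain ⟨u, hu⟩ := hbij.2 ⟨C, hC⟩
  exact ⟨u, congrArg Subtype.val hu, fun v hv =>
    hinj ((Subtype.ext hv).trans hu.symm)⟩

theorem exists_other (h : Hyp G p q) (P : Sylow p G) : ∃ Q : Sylow p G, Q ≠ P := by
  haveI : Nontrivial (Sylow p G) := Finite.one_lt_card_iff_nontrivial.1 (by
    rw [card_sylow h]; have := h.big; omega)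
  exact exists_ne P

theorem comm_of_fix_two (h : Hyp G p q) {P B : Sylow p G} (hBP : B ≠ P) {g u : G}
    (hu : u ∈ (P : Subgroup G)) (hgP : g • P = P) (hg : g • B = B) (huB : g • (u • B) = u • B) :
    g * u = u * g := by
  have hm := conj_mem hgP hu
  have e : (g * u * g⁻¹) • B = u • B := by
    rw [mul_smul, inv_smul_eq_iff.2 hg.symm, mul_smul, huB]
  have hne : u • B ≠ P := fun e' => hBP (MulAction.injective u (e'.trans (fix_self hu).symm))
  obtain ⟨w, -, hwu⟩ := exists_map h hBP hne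
  have := congrArg Subtype.val ((hwu ⟨_, hm⟩ e).trans (hwu ⟨u, hu⟩ rfl).symm)
  exact mul_inv_eq_iff_eq_mul.1 this

theorem faithful (h : Hyp G p q) : FaithfulSMul G (Sylow p G) := by
  refine ⟨fun {g k} hgk => ?_⟩
  by_contra hne
  have hfix : ∀ P : Sylow p G, (k⁻¹ * g) • P = P := fun P => by
    rw [mul_smul, hgk, inv_smul_smul]
  obtain ⟨P⟩ : Nonempty (Sylow p G) := inferInstance
  obtain ⟨B, hB⟩ := exists_other h P
  have hP := (sylow_eq h P).1
  haveI : Nontrivial (P : Subgroup G) := Finite.one_lt_card_iff_nontrivial.1 (by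
    rw [hP]; have := h.big; omega)
  obtain ⟨⟨u, hu⟩, hu1⟩ := exists_ne (1 : (P : Subgroup G))
  have hc := comm_of_fix_two h hB hu (hfix P) (hfix B) (hfix _)
  have hmem : k⁻¹ * g ∈ (P : Subgroup G) := by
    rw [← ((sylow_eq h P).2 u hu fun e => hu1 (Subtype.ext e)).2,
      Subgroup.mem_centralizer_singleton_iff]
    exact hc
  exact hne (inv_mul_eq_one.1 (eq_one_of_fix h hmem hB (hfix B))).symm

theorem frame (h : Hyp G p q) {x b : Sylow p G} (hxb : x ≠ b) :
    Perm.Zassenhaus.Frame3 x b (x : Subgroup G) where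
  ne := hxb
  faithful := faithful h
  le := fun u hu => MulAction.mem_stabilizer_iff.2 (fix_self hu)
  normal := fun g hg u hu => conj_mem hg hu
  comm := fun u hu v hv => by
    by_cases hu1 : u = 1
    · simp [hu1]
    · have := ((sylow_eq h x).2 u hu hu1).2
      rw [← this, Subgroup.mem_centralizer_singleton_iff] at hv
      exact hv.symm
  reg := fun y z hy hz => exists_map h hy hz
  three := fun g hgx hgb c hcx hcb hgc => by
    obtain ⟨u, hu, -⟩ := exists_map h hxb.symm hcx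
    have hu1 : (u : G) ≠ 1 := fun e => hcb (by rw [← hu, e, one_smul])
    have hc := comm_of_fix_two h hxb.symm u.2 hgx hgb (by rw [hu]; exact hgc)
    have hmem : g ∈ (x : Subgroup G) := by
      rw [← ((sylow_eq h x).2 u u.2 hu1).2, Subgroup.mem_centralizer_singleton_iff]
      exact hc
    exact eq_one_of_fix h hmem hxb.symm hgb

theorem card_stab (h : Hyp G p q) {x b : Sylow p G} (hxb : x ≠ b) :
    Nat.card ↥(stabilizer G x ⊓ stabilizer G b) + 2 = Nat.card (Sylow p G) := by
  classical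
  have hq := h.big
  rw [card_sylow h]
  have h1 := (stabilizer G x).index_mul_card
  rw [Sylow.stabilizer_eq_normalizer, ← Sylow.card_eq_index_normalizer, card_sylow h, h.card] at h1
  let f : ↥(x : Subgroup G) × ↥(stabilizer G x ⊓ stabilizer G b) → stabilizer G x :=
    fun a => ⟨(a.1 : G) * (a.2 : G), mul_mem (MulAction.mem_stabilizer_iff.2 (fix_self a.1.2))
      (Subgroup.mem_inf.1 a.2.2).1⟩
  have hf : Function.Bijective f := by
    constructor
    · rintro ⟨u, a⟩ ⟨v, c⟩ e
      have e' : (u : G) * a = v * c := congrArg Subtype.val e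
      have e1 := congrArg (· • b) e'
      simp only [mul_smul, MulAction.mem_stabilizer_iff.1 (Subgroup.mem_inf.1 a.2).2,
        MulAction.mem_stabilizer_iff.1 (Subgroup.mem_inf.1 c.2).2] at e1
      have hne : (v : G) • b ≠ x := fun e' =>
        hxb.symm (MulAction.injective (v : G) (e'.trans (fix_self v.2).symm))
      obtain ⟨w, -, hw⟩ := exists_map h hxb.symm hne
      obtain rfl : u = v := (hw u e1).trans (hw v rfl).symm
      rw [Subtype.ext (mul_left_cancel e') (a1 := a)]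
    · rintro ⟨g, hg⟩
      have hgb : g • b ≠ x := fun e =>
        hxb.symm (MulAction.injective g (e.trans (MulAction.mem_stabilizer_iff.1 hg).symm))
      obtain ⟨u, hu, -⟩ := exists_map h hxb.symm hgb
      refine ⟨⟨u, ⟨(u : G)⁻¹ * g, Subgroup.mem_inf.2 ⟨mul_mem (inv_mem
        (MulAction.mem_stabilizer_iff.2 (fix_self u.2))) hg, ?_⟩⟩⟩, Subtype.ext ?_⟩
      · rw [MulAction.mem_stabilizer_iff, mul_smul, ← hu, inv_smul_smul]
      · exact mul_inv_cancel_left (u : G) g
  have h2 := Nat.card_eq_of_bijective f hf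
  rw [Nat.card_prod, (sylow_eq h x).1, Sylow.stabilizer_eq_normalizer] at h2
  rw [← h2] at h1
  have e : q * (q ^ 2 - 1) = (q + 1) * (q * (q - 1)) := by
    rw [← one_pow 2, Nat.sq_sub_sq]; ring
  rw [e] at h1
  have h3 := Nat.eq_of_mul_eq_mul_left (by omega) (Nat.eq_of_mul_eq_mul_left (by omega) h1)
  simp only [Sylow.stabilizer_eq_normalizer] at h3 ⊢
  omega

theorem even_fix (h : Hyp G p q) {t : G} (ht : orderOf t = 2) :
    Even (Nat.card {Q : Sylow p G // t • Q = Q}) := by
  classical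
  haveI := Fintype.ofFinite (Sylow p G)
  let f : Function.End (Sylow p G) := fun Q => t • Q
  have hf : f ^ (2 ^ 1) = 1 := by
    funext Q
    show t • t • Q = Q
    rw [← mul_smul, ← pow_two, ← ht, pow_orderOf_eq_one, one_smul]
  have := Equiv.Perm.card_fixedPoints_modEq hf
  rw [← Nat.card_eq_fintype_card, ← Nat.card_eq_fintype_card, card_sylow h] at this
  obtain ⟨j, hj⟩ := odd_q h
  have e : Nat.card f.fixedPoints = Nat.card {Q : Sylow p G // t • Q = Q} := rfl
  rw [Nat.even_iff, ← e, ← this]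
  omega

theorem unique_involution (h : Hyp G p q) {t t' : G} (ht : orderOf t = 2) (ht' : orderOf t' = 2)
    {a c : Sylow p G} (hac : a ≠ c) (h1 : t • a = a) (h2 : t • c = c) (h3 : t' • a = a)
    (h4 : t' • c = c) : t = t' := by
  have hq := h.big
  haveI : Nontrivial (a : Subgroup G) := Finite.one_lt_card_iff_nontrivial.1 (by
    rw [(sylow_eq h a).1]; omega)
  obtain ⟨⟨u, hu⟩, hu1⟩ := exists_ne (1 : (a : Subgroup G))
  obtain ⟨hup, hC⟩ := (sylow_eq h a).2 u hu fun e => hu1 (Subtype.ext e)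
  have hinv : ∀ s : G, orderOf s = 2 → s • a = a → s * u * s⁻¹ = u⁻¹ := fun s hs hsa =>
    invol_inverts h hup hs (fun v hv => by rw [hC] at hv ⊢; exact conj_mem hsa hv)
      (by rw [hC]; exact hu)
  have hmem : t'⁻¹ * t ∈ (a : Subgroup G) := by
    rw [← hC, Subgroup.mem_centralizer_singleton_iff, ← mul_inv_eq_iff_eq_mul]
    calc t'⁻¹ * t * u * (t'⁻¹ * t)⁻¹ = t'⁻¹ * (t * u * t⁻¹) * t' := by group
      _ = t'⁻¹ * (t' * u * t'⁻¹) * t' := by rw [hinv t ht h1, hinv t' ht' h3]
      _ = u := by group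
  refine (inv_mul_eq_one.1 (eq_one_of_fix h hmem hac.symm ?_)).symm
  rw [mul_smul, h2, inv_smul_eq_iff, h4]

/-- The elements interchanging two points are involutions. -/
theorem swaps (h : Hyp G p q) : (∃ (x b : Sylow p G) (s : G), x ≠ b ∧ s • x = b ∧ s • b = x) ∧
    ∀ (x b : Sylow p G) (g : G), x ≠ b → g • x = b → g • b = x → g * g = 1 := by
  classical
  have hq := h.big
  haveI := Fintype.ofFinite G
  haveI := Fintype.ofFinite (Sylow p G)
  let α := {a : {t : G // orderOf t = 2} × Sylow p G // a.1.1 • a.2 = a.2}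
  let β := {a : {t : G // orderOf t = 2} × Sylow p G // a.1.1 • a.2 ≠ a.2}
  let Pair := {w : Sylow p G × Sylow p G // w.1 ≠ w.2}
  let T := Σ w : Pair, {g : G // g • w.1.1 = w.1.2 ∧ g • w.1.2 = w.1.1}
  have hPair : Nat.card Pair = (q + 1) * q := by
    let e : Pair ≃ Σ a : Sylow p G, {c : Sylow p G // a ≠ c} :=
      { toFun := fun w => ⟨w.1.1, w.1.2, w.2⟩
        invFun := fun z => ⟨(z.1, z.2.1), z.2.2⟩
        left_inv := fun w => rfl
        right_inv := fun z => rfl }
    rw [Nat.card_congr e, Nat.card_sigma, Finset.sum_congr rfl (g := fun _ => q) fun a _ => ?_,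
      Finset.sum_const, Finset.card_univ, ← Nat.card_eq_fintype_card, card_sylow h, smul_eq_mul]
    rw [Nat.card_congr (Equiv.subtypeEquivRight fun c => ne_comm), Nat.card_eq_fintype_card,
      Fintype.card_subtype_compl, Fintype.card_subtype_eq, ← Nat.card_eq_fintype_card, card_sylow h]
    omega
  have hα : Nat.card α ≤ (q + 1) * q := by
    have hex : ∀ a : α, ∃ c : Sylow p G, a.1.2 ≠ c ∧ a.1.1.1 • c = c := by
      intro a
      by_contra hcon
      push_neg at hcon
      have h1 : Nat.card {Q : Sylow p G // a.1.1.1 • Q = Q} = 1 := by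
        rw [Nat.card_eq_one_iff_unique]
        refine ⟨⟨fun u v => Subtype.ext ?_⟩, ⟨⟨a.1.2, a.2⟩⟩⟩
        rw [← Classical.not_not.1 fun e => hcon u.1 e u.2,
          ← Classical.not_not.1 fun e => hcon v.1 e v.2]
      exact Nat.not_even_one (h1 ▸ even_fix h a.1.1.2)
    choose c hc1 hc2 using hex
    rw [← hPair]
    refine Nat.card_le_card_of_injective (fun a => (⟨(a.1.2, c a), hc1 a⟩ : Pair)) fun a a' e => ?_
    have e1 : a.1.2 = a'.1.2 := congrArg (fun w : Pair => w.1.1) e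
    have e2 : c a = c a' := congrArg (fun w : Pair => w.1.2) e
    refine Subtype.ext (Prod.ext (Subtype.ext ?_) e1)
    exact unique_involution h a.1.1.2 a'.1.1.2 (hc1 a) a.2 (hc2 a) (e1 ▸ a'.2) (e2 ▸ hc2 a')
  have hαβ : Nat.card α + Nat.card β = q ^ 2 * (q + 1) := by
    rw [← Nat.card_sum, Nat.card_congr (Equiv.sumCompl _), Nat.card_prod, card_sylow h,
      show Nat.card {t : G // orderOf t = 2} = q ^ 2 from cnt_two h]
  have hT : Nat.card T ≤ (q + 1) * q * (q - 1) := by
    rw [Nat.card_sigma, ← hPair, Nat.card_eq_fintype_card (α := Pair)]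
    refine (Finset.sum_le_card_nsmul _ _ (q - 1) fun w _ => ?_).trans_eq (by rw [smul_eq_mul,
      Finset.card_univ])
    rcases isEmpty_or_nonempty {g : G // g • w.1.1 = w.1.2 ∧ g • w.1.2 = w.1.1} with hE | ⟨⟨g₀, hg₀⟩⟩
    · rw [Nat.card_eq_zero.2 (Or.inl hE)]; exact Nat.zero_le _
    · have hc := card_stab h w.2
      rw [card_sylow h] at hc
      refine le_trans (Nat.card_le_card_of_injective (fun g => (⟨g₀⁻¹ * g.1, Subgroup.mem_inf.2
        ⟨?_, ?_⟩⟩ : ↥(stabilizer G w.1.1 ⊓ stabilizer G w.1.2))) fun g g' e =>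
          Subtype.ext (mul_left_cancel (congrArg Subtype.val e))) (by omega)
      · rw [MulAction.mem_stabilizer_iff, mul_smul, g.2.1, inv_smul_eq_iff, hg₀.1]
      · rw [MulAction.mem_stabilizer_iff, mul_smul, g.2.2, inv_smul_eq_iff, hg₀.2]
  let ψ : β → T := fun a => ⟨⟨(a.1.2, a.1.1.1 • a.1.2), fun e => a.2 e.symm⟩, a.1.1.1, rfl, by
    rw [← mul_smul, ← pow_two]
    have := pow_orderOf_eq_one a.1.1.1
    rw [a.1.1.2] at this
    rw [this, one_smul]⟩
  have hinj : Function.Injective ψ := fun a a' e => by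
    have e1 : a.1.2 = a'.1.2 := congrArg (fun z : T => z.1.1.1) e
    have e2 : a.1.1.1 = a'.1.1.1 := congrArg (fun z : T => z.2.1) e
    exact Subtype.ext (Prod.ext (Subtype.ext e2) e1)
  have hge : (q + 1) * q * (q - 1) ≤ Nat.card β := by
    have e : q ^ 2 * (q + 1) = (q + 1) * q * (q - 1) + (q + 1) * q := by
      obtain ⟨j, rfl⟩ : ∃ j, q = j + 1 := ⟨q - 1, by omega⟩
      rw [Nat.add_sub_cancel]; ring
    omega
  have hle := Nat.card_le_card_of_injective ψ hinj
  have hbij : Function.Bijective ψ :=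
    (Nat.bijective_iff_injective_and_card ψ).2 ⟨hinj, le_antisymm hle (hT.trans hge)⟩
  refine ⟨?_, fun x b g hxb h1 h2 => ?_⟩
  · haveI : Nonempty β := (Nat.card_pos_iff.1 (lt_of_lt_of_le (by
      have : 0 < q - 1 := by omega
      positivity) hge)).1
    obtain ⟨a⟩ := ‹Nonempty β›
    exact ⟨(ψ a).1.1.1, (ψ a).1.1.2, (ψ a).2.1, (ψ a).1.2, (ψ a).2.2.1, (ψ a).2.2.2⟩
  · obtain ⟨a, ha⟩ := hbij.2 ⟨⟨(x, b), hxb⟩, g, h1, h2⟩
    have e : a.1.1.1 = g := congrArg (fun z : T => z.2.1) ha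
    rw [← e, ← pow_two]
    have := pow_orderOf_eq_one a.1.1.1
    rwa [a.1.1.2] at this

theorem recognise (h : Hyp G p q) : ∃ (K : Type) (_ : Field K) (_ : Fintype K),
    Fintype.card K = q ∧ Nonempty (G ≃* Matrix.ProjGenLinGroup (Fin 2) K) := by
  obtain ⟨⟨x, b, s, hxb, hsx, hsb⟩, hall⟩ := swaps h
  have hss := hall x b s hxb hsx hsb
  have hinv : ∀ g : G, g • x = x → g • b = b → s * g * s = g⁻¹ := fun g hgx hgb => by
    have := hall x b (s * g) hxb (by rw [mul_smul, hgx, hsx]) (by rw [mul_smul, hgb, hsb])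
    rw [← mul_assoc] at this
    exact eq_inv_of_mul_eq_one_left this
  have hc := card_stab h hxb
  obtain ⟨K, i1, i2, hK, hpgl, -⟩ := (frame h hxb).iso_of_inverted hsx hss hinv (Or.inl hc.symm)
  refine ⟨K, i1, i2, ?_, hpgl hc.symm⟩
  have := card_sylow h
  omega

end Cfsg.Agent.NsePGL.Line
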